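import Cfsg.Agent.H0.TT
import Cfsg.Agent.H0.MS43.D
import Cfsg.Agent.H0.CenI
import Cfsg.Agent.H0.MWD4.D
set_option maxRecDepth 100000
set_option Elab.async false
set_option linter.unusedSectionVars false
namespace H0.ES43D
open H0 BN 
noncomputable def n14 : Net := (Net.cons (nat_lit 32) (nat_lit 0xaf396034) (Net.cons (nat_lit 16) (nat_lit 0xae3400004084) (Net.cons (nat_lit 8) (nat_lit 0x25005e00000035) (Net.cons (nat_lit 4) (nat_lit 0x2080a00000c080c) (Net.cons (nat_lit 2) (nat_lit 0x100102300023321) (Net.cons (nat_lit 1) (nat_lit 0x110104100040414) (Net.cons (nat_lit 2) (nat_lit 0x20200000000022) (Net.cons (nat_lit 4) (nat_lit 0x208020c00080004) (Net.cons (nat_lit 8) (nat_lit 0x2400160000006a) (Net.cons (nat_lit 16) (nat_lit 0x8e3400005084) (Net.cons (nat_lit 32) (nat_lit 0xaf396034) Net.nil)))))))))))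
noncomputable def n15 : Net := (Net.cons (nat_lit 32) (nat_lit 0xaf396034) (Net.cons (nat_lit 16) (nat_lit 0xce3c00005084) (Net.cons (nat_lit 8) (nat_lit 0x19008600000095) (Net.cons (nat_lit 4) (nat_lit 0x802080f00080102) (Net.cons (nat_lit 2) (nat_lit 0x1003023100003033) (Net.cons (nat_lit 1) (nat_lit 0x4004005400041101) (Net.cons (nat_lit 2) (nat_lit 0x2002000200022200) (Net.cons (nat_lit 4) (nat_lit 0x802000c000c0000) (Net.cons (nat_lit 8) (nat_lit 0x18000c000000ca) (Net.cons (nat_lit 16) (nat_lit 0xee2400004084) (Net.cons (nat_lit 32) (nat_lit 0xaf396034) Net.nil)))))))))))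
noncomputable def n16 : Net := (Net.cons (nat_lit 32) (nat_lit 0x9229e0cb) (Net.cons (nat_lit 16) (nat_lit 0x380000308c) (Net.cons (nat_lit 8) (nat_lit 0xb200200018003a) (Net.cons (nat_lit 4) (nat_lit 0x1000401080304) (Net.cons (nat_lit 2) (nat_lit 0x22202110100323) (Net.cons (nat_lit 1) (nat_lit 0x1011400104040441) (Net.cons (nat_lit 2) (nat_lit 0x20200000000200) (Net.cons (nat_lit 4) (nat_lit 0xc04040200) (Net.cons (nat_lit 8) (nat_lit 0xb200600004001a) (Net.cons (nat_lit 16) (nat_lit 0x80380000355c) (Net.cons (nat_lit 32) (nat_lit 0x9229e0a8) Net.nil)))))))))))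
noncomputable def n17 : Net := (Net.cons (nat_lit 32) (nat_lit 0x92058a6b) (Net.cons (nat_lit 16) (nat_lit 0x88050000211c) (Net.cons (nat_lit 8) (nat_lit 0x9a000200d40057) (Net.cons (nat_lit 4) (nat_lit 0xa00000904050c) (Net.cons (nat_lit 2) (nat_lit 0x2000301200231) (Net.cons (nat_lit 1) (nat_lit 0x11005440441400) (Net.cons (nat_lit 2) (nat_lit 0x22000020200200) (Net.cons (nat_lit 4) (nat_lit 0x2000404000600) (Net.cons (nat_lit 8) (nat_lit 0x9a000200d00076) (Net.cons (nat_lit 16) (nat_lit 0xa04000040ac) (Net.cons (nat_lit 32) (nat_lit 0x92058a08) Net.nil)))))))))))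
noncomputable def n18 : Net := (Net.cons (nat_lit 32) (nat_lit 0x4109d0) (Net.cons (nat_lit 16) (nat_lit 0x420000a020) (Net.cons (nat_lit 8) (nat_lit 0x2800140094) (Net.cons (nat_lit 4) (nat_lit 0x2040c04080f) (Net.cons (nat_lit 2) (nat_lit 0x2013120012) (Net.cons (nat_lit 1) (nat_lit 0x1011005000455) (Net.cons (nat_lit 2) (nat_lit 0x2000000000) (Net.cons (nat_lit 4) (nat_lit 0x2000c040800) (Net.cons (nat_lit 8) (nat_lit 0x2000000094) (Net.cons (nat_lit 16) (nat_lit 0x4200008020) (Net.cons (nat_lit 32) (nat_lit 0x4109d0) Net.nil)))))))))))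
noncomputable def n19 : Net := (Net.cons (nat_lit 32) (nat_lit 0x5805820) (Net.cons (nat_lit 16) (nat_lit 0x110000070e2) (Net.cons (nat_lit 8) (nat_lit 0x90004800ee00d6) (Net.cons (nat_lit 4) (nat_lit 0x4000108000a000e) (Net.cons (nat_lit 2) (nat_lit 0x1000020222223020) (Net.cons (nat_lit 1) (nat_lit 0x4000014104014011) (Net.cons (nat_lit 2) (nat_lit 0x20002002020) (Net.cons (nat_lit 4) (nat_lit 0x40000080c000000) (Net.cons (nat_lit 8) (nat_lit 0x90000800c600d2) (Net.cons (nat_lit 16) (nat_lit 0x110000070e2) (Net.cons (nat_lit 32) (nat_lit 0x5805800) Net.nil)))))))))))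
noncomputable def n20 : Net := (Net.cons (nat_lit 32) (nat_lit 0xd805820) (Net.cons (nat_lit 16) (nat_lit 0x49500000841d) (Net.cons (nat_lit 8) (nat_lit 0xd0000800d200ce) (Net.cons (nat_lit 4) (nat_lit 0x400090800040c08) (Net.cons (nat_lit 2) (nat_lit 0x3000202010202200) (Net.cons (nat_lit 1) (nat_lit 0x1400100110110401) (Net.cons (nat_lit 2) (nat_lit 0x2000200200200202) (Net.cons (nat_lit 4) (nat_lit 0x4000808000a0008) (Net.cons (nat_lit 8) (nat_lit 0x90000800d600ce) (Net.cons (nat_lit 16) (nat_lit 0x49500000861c) (Net.cons (nat_lit 32) (nat_lit 0xd805800) Net.nil)))))))))))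
noncomputable def n21 : Net := (Net.cons (nat_lit 32) (nat_lit 0x2000450) (Net.cons (nat_lit 16) (nat_lit 0x20000006394) (Net.cons (nat_lit 8) (nat_lit 0x94008200d1) (Net.cons (nat_lit 4) (nat_lit 0xc08020c040c) (Net.cons (nat_lit 2) (nat_lit 0x120132000123) (Net.cons (nat_lit 1) (nat_lit 0x4001450010) (Net.cons (nat_lit 2) (nat_lit 0x2000020) (Net.cons (nat_lit 4) (nat_lit 0xc080200040c) (Net.cons (nat_lit 8) (nat_lit 0x9400820090) (Net.cons (nat_lit 16) (nat_lit 0x20000004384) (Net.cons (nat_lit 32) (nat_lit 0x2000450) Net.nil)))))))))))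
noncomputable def n22 : Net := (Net.cons (nat_lit 32) (nat_lit 0x403000a0) (Net.cons (nat_lit 16) (nat_lit 0x40300000139d) (Net.cons (nat_lit 8) (nat_lit 0x4800560075) (Net.cons (nat_lit 4) (nat_lit 0x8060308040b) (Net.cons (nat_lit 2) (nat_lit 0x112230111) (Net.cons (nat_lit 1) (nat_lit 0x404055114414) (Net.cons (nat_lit 2) (nat_lit 0x220022) (Net.cons (nat_lit 4) (nat_lit 0x8040c080800) (Net.cons (nat_lit 8) (nat_lit 0x48005600b4) (Net.cons (nat_lit 16) (nat_lit 0x40200000151c) (Net.cons (nat_lit 32) (nat_lit 0x40300080) Net.nil)))))))))))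
noncomputable def nl2 : List Net := [n14, n15, n16, n17, n18, n19, n20, n21, n22]
theorem nl2_ok : allL (Net.ok (nat_lit 64)) nl2 = true := by decide +kernel
noncomputable def nl : List Net := [H0.MS43.n0, H0.MS43.n1, H0.MS43.n2, H0.MS43.n3, H0.MS43.n4, H0.MS43.n5, H0.MS43.n6, H0.MS43.n7, H0.MS43.n8, H0.MS43.n9, H0.MS43.n10, H0.MS43.n11, H0.MS43.n12, H0.MS43.n13, n14, n15, n16, n17, n18, n19, n20, n21, n22]
theorem nl_ok : allL (Net.ok (nat_lit 64)) nl = true := allL_append H0.MS43.nl_ok nl2_ok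
noncomputable def R : Rep := mkRep (nat_lit 6) (nat_lit 64) nl (by decide +kernel) nl_ok
def defs : List (List ℕ) := [[1, 1, 1, 1, 0, 1, 0, 3, 3, 5, 7, 9, 9, 7, 11], [14, 14, 14], [1, 0, 1, 1, 1, 0, 3, 3, 7, 9, 9, 7], [16, 16, 16, 16, 16], [17, 15, 16, 14, 14], [17, 17], [19, 19], [20, 18, 19], [18, 20, 18, 20]]
def lc : List Model.Lev := [(0, [[19, 18], [14, 18, 22, 21]], 32), (1, [[16, 14, 16, 19, 19, 22], [16, 14, 16, 21]], 3), (2, [[19, 19, 18, 22], []], 2)]
theorem c0 : Model.fixP R [1, 0] [[19, 19, 18, 22], []] = true := by decide +kernel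
theorem c1 : Model.growP R [[19, 19, 18, 22], []] [0] 2 2 = true := by decide +kernel
theorem c2 : Model.fixP R [0] [[16, 14, 16, 19, 19, 22], [16, 14, 16, 21]] = true := by decide +kernel
theorem c3 : Model.growP R [[16, 14, 16, 19, 19, 22], [16, 14, 16, 21]] [0, 1] 1 3 = true := by decide +kernel
theorem c4 : Model.fixP R [] [[19, 18], [14, 18, 22, 21]] = true := by decide +kernel
theorem c5 : Model.growP R [[19, 18], [14, 18, 22, 21]] [0, 1, 0, 1, 0, 1, 0, 0] 0 32 = true := by decide +kernel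
theorem c6 : pairsB R [10, 2, 1, 0] ((((H0.MWD4.B.map (sh 14)).map fun r => (r, ([] : List ℕ))).drop 0).take 27) = true := by decide +kernel
theorem c7 : defsChk R defs 14 = true := by decide +kernel
end H0.ES43D
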